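/-
A wreath product subgroup of order 32 containing the centraliser of its centre.
-/
import Cfsg.Agent.Lib.ThompsonLemma.CaseA

set_option autoImplicit false

namespace CfsgLib.WreathRank

open Subgroup
open scoped commutatorElement

universe u

variable {S : Type u} [Group S] [Finite S]

/-- The hypotheses. -/
structure Setup (Q E : Subgroup S) (s : S) : Prop where
  hS : IsPGroup 2 S
  hEQ : E ≤ Q
  hEc : ∀ a ∈ E, ∀ b ∈ E, a * b = b * a
  hE2 : ∀ a ∈ E, a * a = 1
  hE16 : Nat.card E = 16
  hQ32 : Nat.card Q = 32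
  hsQ : s ∈ Q
  hsE : s ∉ E
  hss : s * s = 1
  hfix : Nat.card ↥(E ⊓ centralizer ({s} : Set S)) = 4
  hC : centralizer ((E ⊓ centralizer ({s} : Set S) : Subgroup S) : Set S) = Q

namespace Setup

variable {Q E : Subgroup S} {s : S} (h : Setup Q E s)
include h

omit [Finite S] in
theorem inv_eq {a : S} (ha : a ∈ E) : a⁻¹ = a := inv_eq_of_mul_eq_one_right (h.hE2 a ha)

omit [Finite S] in
theorem s_inv : s⁻¹ = s := inv_eq_of_mul_eq_one_right h.hss

theorem relIndex_Q : E.relIndex Q = 2 := by
  have := (E.subgroupOf Q).card_mul_index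
  rw [Nat.card_congr (subgroupOfEquivOfLe h.hEQ).toEquiv, h.hE16, h.hQ32] at this
  show (E.subgroupOf Q).index = 2
  omega

theorem Q_cases {q : S} (hq : q ∈ Q) (hqE : q ∉ E) : q * s ∈ E := by
  have hi : (E.subgroupOf Q).index = 2 := h.relIndex_Q
  have := (Subgroup.mul_mem_iff_of_index_two hi (a := ⟨q, hq⟩) (b := ⟨s, h.hsQ⟩)).2
    (iff_of_false hqE h.hsE)
  exact this

theorem Q_le_normalizer : Q ≤ Subgroup.normalizer (E : Set S) := by
  haveI : (E.subgroupOf Q).Normal := Subgroup.normal_of_index_eq_two h.relIndex_Q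
  intro q hq
  rw [mem_normalizer_iff]
  intro e
  constructor
  · intro he
    exact Normal.conj_mem (H := E.subgroupOf Q) inferInstance ⟨e, h.hEQ he⟩ he ⟨q, hq⟩
  · intro he
    have := Normal.conj_mem (H := E.subgroupOf Q) inferInstance ⟨_, h.hEQ he⟩ he ⟨q⁻¹, inv_mem hq⟩
    simpa [mem_subgroupOf, mul_assoc] using this

theorem not_centralize : ¬ E ≤ centralizer ({s} : Set S) := fun hle => by
  have := h.hfix
  rw [inf_eq_left.2 hle, h.hE16] at this
  omega

theorem self_centralizing {x : S} (hx : ∀ e ∈ E, x * e = e * x) : x ∈ E := by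
  have hxQ : x ∈ Q := by
    rw [← h.hC]
    exact fun e he => (hx e he.1).symm
  by_contra hxE
  refine h.not_centralize fun e he => mem_centralizer_singleton_iff.2 ?_
  have hs : s = x⁻¹ * (x * s) := by group
  have h2 : Commute x e := hx e he
  have h1 : Commute (x * s) e := h.hEc _ (h.Q_cases hxQ hxE) e he
  rw [hs]
  exact (h2.inv_left.mul_left h1).symm.eq

/-- The commutation map. -/
def cm {x : S} (hx : x ∈ Subgroup.normalizer (E : Set S)) : E →* S :=
  MonoidHom.mk' (fun e => (e : S) * (x * e * x⁻¹)) fun a b => by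
    have e1 : (b : S) * (x * a * x⁻¹) = (x * a * x⁻¹) * b :=
      h.hEc b b.2 _ ((mem_normalizer_iff.1 hx a).1 a.2)
    show (a : S) * b * (x * (a * b) * x⁻¹) = _
    rw [show x * ((a : S) * b) * x⁻¹ = (x * a * x⁻¹) * (x * b * x⁻¹) by group,
      show (a : S) * b * ((x * a * x⁻¹) * (x * b * x⁻¹)) = a * ((b : S) * (x * a * x⁻¹)) * (x * b * x⁻¹) by group, e1]
    group

omit [Finite S] in
theorem cm_apply {x : S} (hx : x ∈ Subgroup.normalizer (E : Set S)) (e : E) :
    h.cm hx e = (e : S) * (x * e * x⁻¹) := rfl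

omit [Finite S] in
theorem range_le {x : S} (hx : x ∈ Subgroup.normalizer (E : Set S)) : (h.cm hx).range ≤ E := by
  rintro _ ⟨e, rfl⟩
  exact mul_mem e.2 ((mem_normalizer_iff.1 hx e).1 e.2)

omit [Finite S] in
theorem cm_eq_one {x : S} (hx : x ∈ Subgroup.normalizer (E : Set S)) (e : E) :
    h.cm hx e = 1 ↔ x * e = e * x := by
  rw [cm_apply, mul_eq_one_iff_inv_eq, h.inv_eq e.2, eq_comm]
  exact mul_inv_eq_iff_eq_mul

theorem card_range_mul {x : S} (hx : x ∈ Subgroup.normalizer (E : Set S)) :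
    Nat.card (h.cm hx).range * Nat.card ↥(E ⊓ centralizer ({x} : Set S)) = 16 := by
  have e : Nat.card (h.cm hx).ker = Nat.card ↥(E ⊓ centralizer ({x} : Set S)) := Nat.card_congr
    { toFun := fun a => ⟨a.1.1, a.1.2, mem_centralizer_singleton_iff.2 ((h.cm_eq_one hx a.1).1 a.2).symm⟩
      invFun := fun a => ⟨⟨a.1, a.2.1⟩, (h.cm_eq_one hx ⟨a.1, a.2.1⟩).2
        (mem_centralizer_singleton_iff.1 a.2.2).symm⟩
      left_inv := fun _ => rfl
      right_inv := fun _ => rfl }
  rw [← e, ← Subgroup.index_ker, Subgroup.index_mul_card, h.hE16]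

theorem range_mul_right {x : S} (hx : x ∈ Subgroup.normalizer (E : Set S)) {e₁ : S} (he : e₁ ∈ E)
    (hx' : x * e₁ ∈ Subgroup.normalizer (E : Set S)) : h.cm hx' = h.cm hx := by
  ext e
  rw [cm_apply, cm_apply, show x * e₁ * e * (x * e₁)⁻¹ = x * (e₁ * e) * e₁⁻¹ * x⁻¹ by group, h.hEc e₁ he e e.2,
    show x * ((e : S) * e₁) * e₁⁻¹ * x⁻¹ = x * e * x⁻¹ by group]

theorem range_s : (h.cm (h.Q_le_normalizer h.hsQ)).range = E ⊓ centralizer ({s} : Set S) := by
  refine eq_of_le_of_card_ge ?_ ?_
  · rintro _ ⟨e, rfl⟩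
    refine ⟨h.range_le _ ⟨e, rfl⟩, mem_centralizer_singleton_iff.2 ?_⟩
    have hc : (e : S) * (s * e * s⁻¹) = (s * e * s⁻¹) * e :=
      h.hEc e e.2 _ ((mem_normalizer_iff.1 (h.Q_le_normalizer h.hsQ) e).1 e.2)
    rw [cm_apply]
    calc (e : S) * (s * e * s⁻¹) * s = (e : S) * s * e := by group
      _ = s * ((s * e * s⁻¹) * e) := by
        rw [h.s_inv, show s * (s * (e : S) * s * e) = (s * s) * (e * s * e) by group, h.hss, one_mul]
      _ = s * ((e : S) * (s * e * s⁻¹)) := by rw [hc]
  · have := h.card_range_mul (h.Q_le_normalizer h.hsQ)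
    rw [h.hfix] at this
    rw [h.hfix]
    omega

/-- A central involution in the fixed points, and a second one. -/
theorem exists_zu : ∃ z u : S, z ∈ center S ∧ z ∈ E ⊓ centralizer ({s} : Set S) ∧ u ∈ E ⊓ centralizer ({s} : Set S) ∧
    z ≠ 1 ∧ u ≠ 1 ∧ u ≠ z := by
  classical
  haveI : Fact (Nat.Prime 2) := ⟨Nat.prime_two⟩
  have hlt : 1 < Nat.card S := by
    have := Subgroup.card_le_card_group E
    rw [h.hE16] at this
    omega
  haveI : Nontrivial S := Finite.one_lt_card_iff_nontrivial.1 hlt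
  haveI := h.hS.center_nontrivial
  obtain ⟨⟨z, hz⟩, hz1⟩ := exists_ne (1 : center S)
  have hzE : z ∈ E := h.self_centralizing fun e _ => (mem_center_iff.1 hz e).symm
  have hzZ : z ∈ E ⊓ centralizer ({s} : Set S) :=
    ⟨hzE, mem_centralizer_singleton_iff.2 (mem_center_iff.1 hz s).symm⟩
  by_contra hc
  push Not at hc
  have hmem : ∀ g : ↥(E ⊓ centralizer ({s} : Set S)), (g : S) ∈ ({1, z} : Finset S) := fun g => by
    by_cases hg : (g : S) = 1
    · simp [hg]
    · simp [hc z g hz hzZ g.2 (fun e => hz1 (Subtype.ext e)) hg]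
  have := Nat.card_le_card_of_injective (fun g => (⟨_, hmem g⟩ : ({1, z} : Finset S)))
    fun a b e => Subtype.ext (congrArg Subtype.val e :)
  rw [h.hfix, Nat.card_eq_fintype_card, Fintype.card_coe] at this
  have := (Finset.card_le_two (a := (1 : S)) (b := z))
  omega

/-- Commuting with `s` modulo `E`. -/
theorem preserves {x : S} (hx : x ∈ Subgroup.normalizer (E : Set S)) (hxs : x * s * x⁻¹ * s⁻¹ ∈ E) {e : S}
    (he : e ∈ E ⊓ centralizer ({s} : Set S)) : x⁻¹ * e * x ∈ E ⊓ centralizer ({s} : Set S) := by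
  have hmem : x⁻¹ * e * x ∈ E := by
    have := (mem_normalizer_iff.1 (inv_mem hx) e).1 he.1
    rwa [inv_inv] at this
  refine ⟨hmem, mem_centralizer_singleton_iff.2 ?_⟩
  set e₁ := x * s * x⁻¹ * s⁻¹
  have h1 : Commute e₁ e := h.hEc _ hxs e he.1
  have h2 : Commute s e := (mem_centralizer_singleton_iff.1 he.2).symm
  have h3 : Commute (e₁ * s) e := h1.mul_left h2
  calc x⁻¹ * e * x * s = x⁻¹ * (e * (e₁ * s)) * x := by simp only [e₁]; group
    _ = x⁻¹ * ((e₁ * s) * e) * x := by rw [h3.eq]
    _ = s * (x⁻¹ * e * x) := by simp only [e₁]; group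

/-- An element commuting with `s` modulo `E` with at most two commutators lies in `E`. -/
theorem mem_of_small {x : S} (hx : x ∈ Subgroup.normalizer (E : Set S)) (hxs : x * s * x⁻¹ * s⁻¹ ∈ E)
    (hR : Nat.card (h.cm hx).range ≤ 2) : x ∈ E := by
  classical
  by_contra hxE
  set e₁ := x * s * x⁻¹ * s⁻¹ with he₁
  have hτ : ∀ e : E, s * h.cm hx e * s⁻¹ = h.cm hx e := by
    intro e
    have hmem : s * (e : S) * s⁻¹ ∈ E := (mem_normalizer_iff.1 (h.Q_le_normalizer h.hsQ) e).1 e.2
    have key : h.cm hx ⟨_, hmem⟩ = s * h.cm hx e * s⁻¹ := by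
      rw [cm_apply, cm_apply]
      have hc : Commute e₁ (s * (x * e * x⁻¹) * s⁻¹) := h.hEc _ hxs _
        ((mem_normalizer_iff.1 (h.Q_le_normalizer h.hsQ) _).1 ((mem_normalizer_iff.1 hx e).1 e.2))
      calc s * (e : S) * s⁻¹ * (x * (s * e * s⁻¹) * x⁻¹)
          = s * (e : S) * s⁻¹ * (e₁ * (s * (x * e * x⁻¹) * s⁻¹) * e₁⁻¹) := by simp only [e₁]; group
        _ = s * (e : S) * s⁻¹ * (s * (x * e * x⁻¹) * s⁻¹) := by rw [hc.eq, mul_inv_cancel_right]
        _ = s * ((e : S) * (x * e * x⁻¹)) * s⁻¹ := by group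
    by_cases h1 : h.cm hx e = 1
    · rw [h1]; simp
    by_contra hne
    haveI := Fintype.ofFinite (h.cm hx).range
    let t : Finset (h.cm hx).range := {1, ⟨_, e, rfl⟩, ⟨_, ⟨_, hmem⟩, key⟩}
    have ht : t.card = 3 := by
      simp only [t]
      rw [Finset.card_insert_of_notMem, Finset.card_insert_of_notMem, Finset.card_singleton]
      · simp only [Finset.mem_singleton, Subtype.mk.injEq]; exact fun e' => hne (congrArg Subtype.val e').symm
      · simp only [Finset.mem_insert, Finset.mem_singleton, not_or]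
        refine ⟨fun e' => h1 (congrArg Subtype.val e').symm, fun e' => h1 ?_⟩
        have e'' := (congrArg Subtype.val e').symm
        simpa using e''
    have := ht ▸ Finset.card_le_univ t
    rw [← Nat.card_eq_fintype_card] at this
    omega
  obtain ⟨z, u, hzc, hz, hu, hz1, hu1, huz⟩ := h.exists_zu
  have hu' := hu
  rw [← h.range_s] at hu'
  obtain ⟨e, he⟩ := hu'
  rw [cm_apply] at he
  have hfixu : x * u = u * x := by
    have hxe : x * (e : S) * x⁻¹ = (e : S) * h.cm hx e := by
      rw [cm_apply, ← mul_assoc, h.hE2 e e.2, one_mul]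
    set τ := h.cm hx e with hτdef
    have hτE : τ ∈ E := h.range_le hx ⟨e, rfl⟩
    have hmem : s * (e : S) * s⁻¹ ∈ E := (mem_normalizer_iff.1 (h.Q_le_normalizer h.hsQ) e).1 e.2
    have hmem' : s * ((e : S) * τ) * s⁻¹ ∈ E :=
      (mem_normalizer_iff.1 (h.Q_le_normalizer h.hsQ) _).1 (mul_mem e.2 hτE)
    have hc : Commute e₁ (s * ((e : S) * τ) * s⁻¹) := h.hEc _ hxs _ hmem'
    rw [← mul_inv_eq_iff_eq_mul]
    calc x * u * x⁻¹ = (x * e * x⁻¹) * (e₁ * (s * (x * e * x⁻¹) * s⁻¹) * e₁⁻¹) := by
          rw [← he]; simp only [e₁]; group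
      _ = ((e : S) * τ) * (s * ((e : S) * τ) * s⁻¹) := by rw [hxe, hc.eq, mul_inv_cancel_right]
      _ = (e : S) * (τ * (s * e * s⁻¹)) * (s * τ * s⁻¹) := by group
      _ = (e : S) * (s * e * s⁻¹) * (τ * τ) := by
        rw [h.hEc τ hτE _ hmem, hτ e]; simp only [hτdef, mul_assoc]
      _ = u := by rw [h.hE2 τ hτE, mul_one, he]
  have hxQ : x ∈ Q := by
    rw [← h.hC]
    intro g hg
    rcases ThompsonLemma.four_all h.hfix.le hz hu hz1 hu1 huz.symm (by rw [pow_two]; exact h.hE2 z hz.1) g hg with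
      rfl | rfl | rfl | rfl
    · simp
    · exact (mem_center_iff.1 hzc x).symm
    · exact hfixu.symm
    · have : Commute x (z * u) := Commute.mul_right (show Commute x z from mem_center_iff.1 hzc x) hfixu
      exact this.symm.eq
  have hxs' := h.Q_cases hxQ hxE
  have hse : x = s * (s⁻¹ * x) := by group
  have hsx : s⁻¹ * x ∈ E := by
    have := inv_mem hxs'
    rw [mul_inv_rev, h.s_inv] at this
    have h2 := (mem_normalizer_iff.1 (h.Q_le_normalizer h.hsQ) _).1 this
    rw [h.s_inv] at h2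
    -- `x⁻¹ s` is the conjugate
    have h3 : s * (s * x⁻¹) * s = x⁻¹ * s := by rw [← mul_assoc s s, h.hss, one_mul]
    rw [h3] at h2
    have := inv_mem h2
    rwa [mul_inv_rev, inv_inv] at this
  have hx' : s * (s⁻¹ * x) ∈ Subgroup.normalizer (E : Set S) := hse ▸ hx
  have : h.cm hx = h.cm (h.Q_le_normalizer h.hsQ) := by
    rw [← h.range_mul_right (h.Q_le_normalizer h.hsQ) hsx hx']
    congr
  rw [this, h.range_s, h.hfix] at hR
  omega

theorem orbit_le {N : Subgroup S} (hQN : Q ≤ N) (hNE : N ≤ Subgroup.normalizer (E : Set S)) :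
    Q.relIndex N ≤ 4 ∧ ((∀ x ∈ N, x * s * x⁻¹ * s⁻¹ ∈ E) → Q.relIndex N ≤ 2) := by
  classical
  haveI : Fact (Nat.Prime 2) := ⟨Nat.prime_two⟩
  obtain ⟨z, u, hzc, hz, hu, hz1, hu1, huz⟩ := h.exists_zu
  have hmem : ∀ a : S, a * u = u * a ↔ a ∈ Q := by
    intro a
    constructor
    · intro ha
      rw [← h.hC]
      intro g hg
      rcases ThompsonLemma.four_all h.hfix.le hz hu hz1 hu1 huz.symm (by rw [pow_two]; exact h.hE2 z hz.1) g hg with
        rfl | rfl | rfl | rfl
      · simp
      · exact (mem_center_iff.1 hzc a).symm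
      · exact ha.symm
      · have : Commute a (z * u) := Commute.mul_right (show Commute a z from mem_center_iff.1 hzc a) ha
        exact this.symm.eq
    · intro ha
      have : a ∈ centralizer ((E ⊓ centralizer ({s} : Set S) : Subgroup S) : Set S) := h.hC ▸ ha
      exact (this u hu).symm
  -- the orbit of `u`
  have hinj : ∀ T : Set S, (∀ x ∈ N, x * u * x⁻¹ ∈ T) → Q.relIndex N ≤ Nat.card T := by
    intro T hT
    refine Nat.card_le_card_of_injective (α := ↥N ⧸ Q.subgroupOf N) (Quotient.lift (fun x : N => (⟨_, hT x.1 x.2⟩ : T))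
      fun a b hab => Subtype.ext ?_) ?_
    · have hab' : a⁻¹ * b ∈ Q.subgroupOf N := QuotientGroup.leftRel_apply.1 hab
      replace hab' : (a : S)⁻¹ * b ∈ Q := hab'
      have := (hmem _).2 hab'
      show (a : S) * u * (a : S)⁻¹ = b * u * (b : S)⁻¹
      calc (a : S) * u * (a : S)⁻¹ = a * (u * ((a : S)⁻¹ * b)) * (b : S)⁻¹ := by group
        _ = a * (((a : S)⁻¹ * b) * u) * (b : S)⁻¹ := by rw [this]
        _ = b * u * (b : S)⁻¹ := by group
    · intro p q hpq
      induction p using Quotient.inductionOn' with | _ a => ?_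
      induction q using Quotient.inductionOn' with | _ b => ?_
      refine Quotient.sound' (QuotientGroup.leftRel_apply.2 ((hmem _).1 ?_))
      have e : (a : S) * u * (a : S)⁻¹ = b * u * (b : S)⁻¹ := congrArg Subtype.val hpq
      calc (a : S)⁻¹ * b * u = (a : S)⁻¹ * (b * u * (b : S)⁻¹) * b := by group
        _ = u * ((a : S)⁻¹ * b) := by rw [← e]; group
  constructor
  · have hN2 : IsPGroup 2 N := h.hS.to_subgroup N
    set W : Subgroup S := ⁅E, N⁆ with hW
    have hWE : W ≤ E := by
      rw [hW, commutator_le]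
      intro e he n hn
      rw [commutatorElement_def, mul_assoc, mul_assoc]
      refine mul_mem he ?_
      rw [← mul_assoc]
      exact (mem_normalizer_iff.1 (hNE hn) _).1 (inv_mem he)
    have hWne : W ≠ E := by
      intro e
      haveI := h.hS.isNilpotent
      have hl : ∀ n, E ≤ (⊤ : Subgroup S).lowerCentralSeries n := by
        intro n
        induction n with
        | zero => simp
        | succ n ih =>
          rw [Subgroup.lowerCentralSeries_succ]
          conv_lhs => rw [← e]
          exact commutator_mono ih le_top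
      obtain ⟨n, hn⟩ := Subgroup.nilpotent_iff_lowerCentralSeries.mp (inferInstance : Group.IsNilpotent S)
      have : E = ⊥ := le_bot_iff.1 (hn ▸ hl n)
      have := h.hE16
      simp [‹E = ⊥›] at this
    obtain ⟨k, hk⟩ := IsPGroup.iff_card.1 (h.hS.to_subgroup W)
    have hk3 : k ≤ 3 := by
      by_contra hc
      refine hWne (eq_of_le_of_card_ge hWE ?_)
      rw [hk, h.hE16]
      exact le_trans (by norm_num) (Nat.pow_le_pow_right (by norm_num) (show 4 ≤ k by omega))
    have huW : u ∈ W := by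
      have hu' := hu
      rw [← h.range_s] at hu'
      obtain ⟨e, rfl⟩ := hu'
      rw [cm_apply]
      have := commutator_mem_commutator (H₂ := N) e.2 (hQN h.hsQ)
      rw [commutatorElement_def, h.inv_eq e.2] at this
      simpa [mul_assoc] using this
    have hzW : z ∈ W := by
      have hz' := hz
      rw [← h.range_s] at hz'
      obtain ⟨e, rfl⟩ := hz'
      rw [cm_apply]
      have := commutator_mem_commutator (H₂ := N) e.2 (hQN h.hsQ)
      rw [commutatorElement_def, h.inv_eq e.2] at this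
      simpa [mul_assoc] using this
    haveI : Fintype W := Fintype.ofFinite _
    let T : Finset S := (Finset.univ.image fun w : W => (w : S)) \ {1, z}
    have hT : ∀ x ∈ N, x * u * x⁻¹ ∈ T := by
      intro x hx
      have h1 : x * u * x⁻¹ ∈ W := by
        have h2 := inv_mem (commutator_mem_commutator (H₂ := N) hu.1 hx)
        rw [commutatorElement_inv] at h2
        have := mul_mem h2 huW
        rwa [show ⁅x, u⁆ * u = x * u * x⁻¹ by rw [commutatorElement_def]; group] at this
      simp only [T, Finset.mem_sdiff, Finset.mem_image, Finset.mem_univ, true_and, Finset.mem_insert,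
        Finset.mem_singleton, not_or]
      refine ⟨⟨⟨_, h1⟩, rfl⟩, fun e => hu1 (conj_eq_one_iff.1 e), fun e => huz ?_⟩
      calc u = x⁻¹ * (x * u * x⁻¹) * x := by group
        _ = z := by rw [e, mem_center_iff.1 hzc x⁻¹]; group
    have hle := hinj (T : Set S) (fun x hx => hT x hx)
    rw [Nat.card_coe_set_eq, Set.ncard_coe_finset] at hle
    have hTc : T.card ≤ 6 := by
      simp only [T]
      rw [Finset.card_sdiff_of_subset]
      · rw [Finset.card_image_of_injective _ Subtype.val_injective, Finset.card_univ, ← Nat.card_eq_fintype_card, hk,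
          Finset.card_insert_of_notMem (by simpa using hz1.symm), Finset.card_singleton]
        have := Nat.pow_le_pow_right (show 0 < 2 by norm_num) hk3
        omega
      · intro g hg
        simp only [Finset.mem_insert, Finset.mem_singleton] at hg
        rcases hg with rfl | rfl
        · exact Finset.mem_image.2 ⟨1, Finset.mem_univ _, rfl⟩
        · exact Finset.mem_image.2 ⟨⟨g, hzW⟩, Finset.mem_univ _, rfl⟩
    obtain ⟨i, hi⟩ := IsPGroup.index (h.hS.to_subgroup N) (Q.subgroupOf N)
    have hQi : Q.relIndex N = 2 ^ i := hi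
    rw [hQi] at hle ⊢
    have : i ≤ 2 := by
      by_contra hc
      have := Nat.pow_le_pow_right (show 0 < 2 by norm_num) (show 3 ≤ i by omega)
      omega
    exact (Nat.pow_le_pow_right (show 0 < 2 by norm_num) this)
  · intro hcomm
    let T : Finset S := {u, z * u}
    have hT : ∀ x ∈ N, x * u * x⁻¹ ∈ T := by
      intro x hx
      have hm : x * u * x⁻¹ ∈ E ⊓ centralizer ({s} : Set S) := by
        have := h.preserves (inv_mem (hNE hx)) (hcomm _ (inv_mem hx)) hu
        rwa [inv_inv] at this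
      rcases ThompsonLemma.four_all h.hfix.le hz hu hz1 hu1 huz.symm (by rw [pow_two]; exact h.hE2 z hz.1) _ hm with
        e | e | e | e
      · exact absurd (conj_eq_one_iff.1 e) hu1
      · exfalso
        apply huz
        calc u = x⁻¹ * (x * u * x⁻¹) * x := by group
          _ = z := by rw [e, mem_center_iff.1 hzc x⁻¹]; group
      · simp [T, e]
      · simp [T, e]
    refine (hinj (T : Set S) fun x hx => hT x hx).trans ?_
    rw [Nat.card_coe_set_eq, Set.ncard_coe_finset]
    exact Finset.card_le_two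

end Setup

end CfsgLib.WreathRank
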