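/-
Sectional rank at most four for a wreath product subgroup containing the centraliser of its centre.
-/
import Cfsg.Agent.Lib.WreathRank.Basic
import Cfsg.Agent.Lib.MacWilliams.Main

set_option autoImplicit false

namespace CfsgLib.WreathRank

open Subgroup
open scoped commutatorElement

universe u

variable {S : Type u} [Group S] [Finite S] {Q E : Subgroup S} {s : S}

omit [Finite S] in
theorem two_pow_le_two {n k : ℕ} (hn : n = 2 ^ k) (h : n < 4) : n ≤ 2 := by
  subst hn
  have : k ≤ 1 := by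
    by_contra hc
    have := Nat.pow_le_pow_right (show 0 < 2 by norm_num) (show 2 ≤ k by omega)
    omega
  interval_cases k <;> simp

namespace Setup

variable (h : Setup Q E s)
include h

/-- An element of a subgroup `W` normalised by `N` which is central modulo `E`. -/
theorem exists_central {N : Subgroup S} (hNE : N ≤ Subgroup.normalizer (E : Set S)) (hEN : E ≤ N) {W : Subgroup S}
    (hWN : W ≤ N) (hW : N ≤ Subgroup.normalizer (W : Set S)) (hne : ¬ W ≤ E) :
    ∃ x ∈ W, x ∉ E ∧ ∀ n ∈ N, n * x * n⁻¹ * x⁻¹ ∈ E := by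
  haveI : Fact (Nat.Prime 2) := ⟨Nat.prime_two⟩
  set E' := E.subgroupOf N
  haveI hEn : E'.Normal := normal_subgroupOf_of_le_normalizer hNE
  haveI hWn : (W.subgroupOf N).Normal := normal_subgroupOf_of_le_normalizer hW
  haveI : Group.IsNilpotent (↥N ⧸ E') := ((h.hS.to_subgroup N).to_quotient E').isNilpotent
  let T := (W.subgroupOf N).map (QuotientGroup.mk' E')
  haveI : T.Normal := Normal.map hWn _ (QuotientGroup.mk'_surjective E')
  have hT : T ≠ ⊥ := by
    rw [Ne, Subgroup.map_eq_bot_iff, QuotientGroup.ker_mk']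
    exact fun hle => hne fun w hw => hle (x := ⟨w, hWN hw⟩) hw
  obtain ⟨q, hq, hq1⟩ := (Subgroup.bot_or_exists_ne_one _).resolve_left
    (CfsgLib.inf_center_ne_bot_of_nilpotent hT)
  obtain ⟨⟨x, hx, rfl⟩, hxc⟩ := Subgroup.mem_inf.1 hq
  refine ⟨x, hx, fun hxE => hq1 ((QuotientGroup.eq_one_iff x).2 hxE), fun n hn => ?_⟩
  have e : QuotientGroup.mk' E' (⟨n, hn⟩ * x * (⟨n, hn⟩ : N)⁻¹ * x⁻¹) = 1 := by
    rw [map_mul, map_mul, map_mul, map_inv, map_inv, Subgroup.mem_center_iff.1 hxc, mul_inv_cancel_right,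
      mul_inv_cancel]
  exact (QuotientGroup.eq_one_iff (N := E') _).1 e

theorem E_self_normal : E ≤ Subgroup.normalizer (E : Set S) := le_trans h.hEQ h.Q_le_normalizer

theorem comm_s {N : Subgroup S} (hsN : s ∈ N) {x : S} (hxE : x ∈ Subgroup.normalizer (E : Set S))
    (hc : ∀ n ∈ N, n * x * n⁻¹ * x⁻¹ ∈ E) : x * s * x⁻¹ * s⁻¹ ∈ E := by
  have := inv_mem (hc s hsN)
  rwa [show (s * x * s⁻¹ * x⁻¹)⁻¹ = x * s * x⁻¹ * s⁻¹ by group] at this

/-- If `E` is normal, elementary abelian images of subgroups are small. -/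
theorem card_le_of_normal (hn : E.Normal) (H : Subgroup S) {V : Type u} [Group V] [Finite V] (f : H →* V)
    (hf : Function.Surjective f) (hV : ∀ v : V, v ^ 2 = 1) : Nat.card V ≤ 16 := by
  haveI : Fact (Nat.Prime 2) := ⟨Nat.prime_two⟩
  have hN : ∀ x : S, x ∈ Subgroup.normalizer (E : Set S) := fun x => by
    rw [Subgroup.normalizer_eq_top_iff.2 hn]; exact mem_top x
  set M := E.subgroupOf H with hM
  by_contra hbig
  push Not at hbig
  have hV2 : IsPGroup 2 V := (h.hS.to_subgroup H).of_surjective f hf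
  obtain ⟨kV, hkV⟩ := IsPGroup.iff_card.1 hV2
  have hV32 : 32 ≤ Nat.card V := MacWilliams.pow_four_arith kV hkV hbig
  have hcardV := (M.map f).card_mul_index
  have hdvd : (M.map f).index ∣ M.index := M.index_map_dvd hf
  have hMc : Nat.card M ≤ 16 := h.hE16 ▸ Nat.card_le_card_of_injective (fun m : M => (⟨(m.1 : S), m.2⟩ : E))
    fun a b e => Subtype.ext (Subtype.ext (congrArg Subtype.val e :))
  have hmap : Nat.card (M.map f) ≤ Nat.card M :=
    Nat.card_le_card_of_surjective (fun m : M => (⟨f m.1, m.1, m.2, rfl⟩ : M.map f))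
      (by rintro ⟨_, m, hm, rfl⟩; exact ⟨⟨m, hm⟩, rfl⟩)
  obtain ⟨hQ4, hQ2⟩ := h.orbit_le (N := ⊤) le_top (fun x _ => hN x)
  have hEidx : E.index = 2 * Q.index := by
    rw [← Subgroup.relIndex_mul_index h.hEQ, h.relIndex_Q]
  rw [Subgroup.relIndex_top_right] at hQ4
  have hMdvd : M.index ∣ E.index := Subgroup.relIndex_dvd_index_of_normal E H
  have hE0 : E.index ≠ 0 := Subgroup.index_ne_zero_of_finite
  have hM8 : M.index ≤ 8 := le_trans (Nat.le_of_dvd (Nat.pos_of_ne_zero hE0) hMdvd) (by omega)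
  have hM0 : M.index ≠ 0 := Subgroup.index_ne_zero_of_finite
  have hjM : (M.map f).index ≤ M.index := Nat.le_of_dvd (Nat.pos_of_ne_zero hM0) hdvd
  have hE8 : ∀ q : S ⧸ E, M.index = E.index → ∃ x : H, ((x : S) : S ⧸ E) = q := by
    intro q he
    have hcard : Nat.card (H.map (QuotientGroup.mk' E)) = Nat.card (S ⧸ E) := by
      rw [← Subgroup.relIndex_ker, QuotientGroup.ker_mk', ← Subgroup.index_eq_card]
      exact he
    have := Subgroup.eq_top_of_card_eq _ hcard
    obtain ⟨x, hx, rfl⟩ := this ▸ mem_top q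
    exact ⟨⟨x, hx⟩, rfl⟩
  -- at most a four-group on top
  have hj : (M.map f).index ≤ 4 := by
    by_contra hj
    have hj8 : (M.map f).index = M.index ∧ M.index = E.index ∧ E.index = 8 := by
      obtain ⟨a, ha⟩ := IsPGroup.index hV2 (M.map f)
      obtain ⟨b, hb⟩ := IsPGroup.index (h.hS.to_subgroup H) M
      obtain ⟨c, hc⟩ := IsPGroup.index h.hS E
      have h3 : 3 ≤ a := by
        by_contra hlt
        have := Nat.pow_le_pow_right (show 0 < 2 by norm_num) (show a ≤ 2 by omega)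
        omega
      have := Nat.pow_le_pow_right (show 0 < 2 by norm_num) h3
      have := Nat.le_of_dvd (Nat.pos_of_ne_zero hE0) hMdvd
      omega
    obtain ⟨h1, h2, h3⟩ := hj8
    have hker : ∀ x : H, f x = 1 → x ∈ M := by
      intro x hx
      have hk : f.ker ≤ M := by
        have e : (M ⊔ f.ker).index = M.index := by
          rw [← h1, Subgroup.index_map, MonoidHom.range_eq_top.2 hf, Subgroup.index_top, mul_one]
        rw [← Subgroup.relIndex_eq_one]
        have h4 := Subgroup.relIndex_mul_index (le_sup_left : M ≤ M ⊔ f.ker)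
        rw [e] at h4
        have h5 : M.relIndex (M ⊔ f.ker) = 1 := Nat.eq_of_mul_eq_mul_right (Nat.pos_of_ne_zero hM0) (by rw [h4, one_mul])
        exact Subgroup.relIndex_eq_one.2 (le_sup_right.trans (Subgroup.relIndex_eq_one.1 h5))
      exact hk hx
    have hcomm : ∀ x : S, x ∈ (⊤ : Subgroup S) → x * s * x⁻¹ * s⁻¹ ∈ E := by
      intro x _
      obtain ⟨a, ha⟩ := hE8 (x : S ⧸ E) h2
      obtain ⟨b, hb⟩ := hE8 (s : S ⧸ E) h2
      haveI := hn
      rw [← QuotientGroup.eq_one_iff]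
      simp only [QuotientGroup.mk_mul, QuotientGroup.mk_inv, ← ha, ← hb]
      have hm : a * b * a⁻¹ * b⁻¹ ∈ M := hker _ (by
        rw [map_mul, map_mul, map_mul, map_inv, map_inv, MacWilliams.exp_two_comm hV (f a) (f b),
          mul_inv_cancel_right, mul_inv_cancel])
      have := (QuotientGroup.eq_one_iff (N := E) ((a * b * a⁻¹ * b⁻¹ : H) : S)).2 hm
      simpa using this
    have := hQ2 hcomm
    rw [Subgroup.relIndex_top_right] at this
    omega
  obtain ⟨km, hkm⟩ := IsPGroup.iff_card.1 (hV2.to_subgroup (M.map f))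
  have hm8 : 8 ≤ Nat.card (M.map f) := by
    by_contra hc
    have := Nat.mul_le_mul (show Nat.card (M.map f) ≤ 7 by omega) hj
    omega
  -- commutators are small
  have hR : ∀ x ∈ H, Nat.card (h.cm (hN x)).range * Nat.card (M.map f) ≤ 16 := by
    intro x hx
    by_cases hfull : E ≤ H
    · have hk : ∀ w ∈ (h.cm (hN x)).range, ∃ hw : w ∈ H, f ⟨w, hw⟩ = 1 := by
        rintro _ ⟨e, rfl⟩
        refine ⟨hfull (h.range_le _ ⟨e, rfl⟩), ?_⟩
        have : (⟨h.cm (hN x) e, hfull (h.range_le _ ⟨e, rfl⟩)⟩ : H) =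
            ⟨e, hfull e.2⟩ * (⟨x, hx⟩ * ⟨e, hfull e.2⟩ * (⟨x, hx⟩ : H)⁻¹) := Subtype.ext rfl
        rw [this, map_mul, map_mul, map_mul, map_inv, MacWilliams.exp_two_comm hV (f ⟨x, hx⟩), mul_inv_cancel_right,
          ← pow_two, hV]
      let φ : (h.cm (hN x)).range → (f.comp M.subtype).ker := fun w =>
        ⟨⟨⟨w.1, (hk w.1 w.2).1⟩, h.range_le _ w.2⟩, (hk w.1 w.2).2⟩
      have h1 := Nat.card_le_card_of_injective φ fun a b e => Subtype.ext (congrArg
        (fun q : (f.comp M.subtype).ker => (q.1.1 : S)) e)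
      have h2 := (f.comp M.subtype).ker.card_mul_index
      have h3 : Nat.card (f.comp M.subtype).range = Nat.card (M.map f) := by
        rw [MonoidHom.range_comp, Subgroup.range_subtype]
      rw [Subgroup.index_ker, h3] at h2
      calc _ ≤ Nat.card (f.comp M.subtype).ker * Nat.card (M.map f) := Nat.mul_le_mul_right _ h1
        _ = Nat.card M := h2
        _ ≤ 16 := hMc
    · -- `M` has order eight and is mapped injectively
      have hlt : Nat.card M < 16 := by
        refine hMc.lt_of_ne fun e => hfull fun a ha => ?_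
        have := Subgroup.eq_top_of_card_eq ((M.map H.subtype).subgroupOf E) (by
          rw [Nat.card_congr (subgroupOfEquivOfLe (show M.map H.subtype ≤ E by
            rintro _ ⟨m, hm, rfl⟩; exact hm)).toEquiv, card_subtype, e, h.hE16])
        obtain ⟨m, -, hm⟩ := (this ▸ mem_top (⟨a, ha⟩ : E) : (⟨a, ha⟩ : E) ∈ (M.map H.subtype).subgroupOf E)
        have hmH : (m : S) ∈ H := m.2
        rwa [show (m : S) = a from hm] at hmH
      obtain ⟨km', hkm'⟩ := IsPGroup.iff_card.1 ((h.hS.to_subgroup H).to_subgroup M)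
      have hM8' : Nat.card M = Nat.card (M.map f) := by
        have h4 : km' ≤ 3 := by
          by_contra hc
          have := Nat.pow_le_pow_right (show 0 < 2 by norm_num) (show 4 ≤ km' by omega)
          omega
        have := Nat.pow_le_pow_right (show 0 < 2 by norm_num) h4
        omega
      have hinj : ∀ m ∈ M, f m = 1 → m = 1 := by
        intro m hm hfm
        have h2 := (f.comp M.subtype).ker.card_mul_index
        have h3 : Nat.card (f.comp M.subtype).range = Nat.card (M.map f) := by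
          rw [MonoidHom.range_comp, Subgroup.range_subtype]
        rw [Subgroup.index_ker, h3, ← hM8'] at h2
        have hk1 : (f.comp M.subtype).ker = ⊥ := Subgroup.card_eq_one.1
          (Nat.eq_of_mul_eq_mul_right Nat.card_pos (by rw [h2, one_mul]))
        have : (⟨m, hm⟩ : M) ∈ (f.comp M.subtype).ker := hfm
        rw [hk1, mem_bot] at this
        exact congrArg Subtype.val this
      have hcent : ∀ m : M, ((m.1 : S)) ∈ E ⊓ centralizer ({x} : Set S) := by
        intro m
        refine ⟨m.2, mem_centralizer_singleton_iff.2 ?_⟩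
        haveI := hn
        have hmem : (⟨x, hx⟩ : H) * m.1 * (⟨x, hx⟩ : H)⁻¹ * m.1⁻¹ ∈ M :=
          mul_mem (hn.conj_mem (m.1 : S) m.2 x) (inv_mem m.2)
        have := hinj _ hmem (by
          rw [map_mul, map_mul, map_mul, map_inv, map_inv, MacWilliams.exp_two_comm hV (f ⟨x, hx⟩),
            mul_inv_cancel_right, mul_inv_cancel])
        have e : x * (m.1 : S) * x⁻¹ * (m.1 : S)⁻¹ = 1 := congrArg Subtype.val this
        rw [mul_inv_eq_one, mul_inv_eq_iff_eq_mul] at e
        exact e.symm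
      have h1 : Nat.card M ≤ Nat.card ↥(E ⊓ centralizer ({x} : Set S)) :=
        Nat.card_le_card_of_injective (fun m => ⟨_, hcent m⟩) fun a b e =>
          Subtype.ext (Subtype.ext (congrArg Subtype.val e :))
      have := h.card_range_mul (hN x)
      calc _ ≤ Nat.card (h.cm (hN x)).range * Nat.card ↥(E ⊓ centralizer ({x} : Set S)) :=
          Nat.mul_le_mul_left _ (hM8' ▸ h1)
        _ = 16 := this
  have hHE : ¬ H ≤ E := fun hle => by
    have hMt : M = ⊤ := eq_top_iff.2 fun x _ => hle x.2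
    rw [← hcardV, hMt, Subgroup.map_top_of_surjective f hf, Subgroup.card_top, Subgroup.index_top, mul_one] at hcardV
    have := Nat.card_le_card_of_injective (fun x : H => (⟨x.1, hle x.2⟩ : E)) fun a b e =>
      Subtype.ext (congrArg Subtype.val e :)
    have := Nat.card_le_card_of_surjective f hf
    rw [h.hE16] at *
    omega
  by_cases h16 : Nat.card (M.map f) = 16
  · refine hHE fun x hx => h.self_centralizing fun e he => ?_
    have := hR x hx
    rw [h16] at this
    have h1 : (h.cm (hN x)).range = ⊥ := (Subgroup.card_le_one_iff_eq_bot _).1 (by omega)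
    have h2 : h.cm (hN x) ⟨e, he⟩ ∈ (h.cm (hN x)).range := ⟨_, rfl⟩
    rw [h1, mem_bot] at h2
    exact (h.cm_eq_one _ _).1 h2
  have hm' : Nat.card (M.map f) = 8 := by
    have h4 : km ≤ 3 := by
      by_contra hc
      have := Nat.pow_le_pow_right (show 0 < 2 by norm_num) (show 4 ≤ km by omega)
      omega
    have := Nat.pow_le_pow_right (show 0 < 2 by norm_num) h4
    omega
  have hj4 : 4 ≤ M.index := by
    refine le_trans ?_ hjM
    by_contra hc
    have := Nat.mul_le_mul (le_of_eq hm') (show (M.map f).index ≤ 3 by omega)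
    omega
  haveI := hn
  let T := H.map (QuotientGroup.mk' E)
  have hTc : Nat.card T = M.index := by rw [← Subgroup.relIndex_ker, QuotientGroup.ker_mk']; rfl
  haveI hTn : T.Normal := by
    have h1 := T.card_mul_index
    rw [hTc, ← Subgroup.index_eq_card] at h1
    have h2 : T.index ≤ 2 := by
      by_contra hc
      have := Nat.mul_le_mul hj4 (show 3 ≤ T.index by omega)
      omega
    have h0 : T.index ≠ 0 := Subgroup.index_ne_zero_of_finite
    rcases (show T.index = 1 ∨ T.index = 2 by omega) with e | e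
    · rw [Subgroup.index_eq_one.1 e]; infer_instance
    · exact Subgroup.normal_of_index_eq_two e
  haveI : Group.IsNilpotent (S ⧸ E) := (h.hS.to_quotient E).isNilpotent
  have hT1 : T ≠ ⊥ := fun e => by rw [e, Subgroup.card_bot] at hTc; omega
  obtain ⟨q, hq, hq1⟩ := (Subgroup.bot_or_exists_ne_one _).resolve_left
    (CfsgLib.inf_center_ne_bot_of_nilpotent hT1)
  obtain ⟨⟨x, hx, rfl⟩, hxc⟩ := Subgroup.mem_inf.1 hq
  refine hq1 ((QuotientGroup.eq_one_iff x).2 (h.mem_of_small (hN x) ?_ ?_))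
  · rw [← QuotientGroup.eq_one_iff]
    show QuotientGroup.mk' E (x * s * x⁻¹ * s⁻¹) = 1
    rw [map_mul, map_mul, map_mul, map_inv, map_inv, ← Subgroup.mem_center_iff.1 hxc (QuotientGroup.mk' E s),
      mul_inv_cancel_right, mul_inv_cancel]
  · have := hR x hx
    rw [hm'] at this
    omega

/-- If `E` is not normal there is no normal elementary abelian subgroup of order eight. -/
theorem noEight_of_not_normal (hn : ¬ E.Normal) : MacWilliams.NoEight S := by
  classical
  intro V hVn hVc hV2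
  by_contra hbig
  push Not at hbig
  haveI : Fact (Nat.Prime 2) := ⟨Nat.prime_two⟩
  haveI := h.hS.isNilpotent
  have hVcomm : ∀ a ∈ V, ∀ b ∈ V, a * b = b * a := fun a ha b hb =>
    congrArg (Subtype.val : V → S) (hVc.is_comm.comm ⟨a, ha⟩ ⟨b, hb⟩)
  set N := Subgroup.normalizer (E : Set S) with hN
  have hNtop : N ≠ ⊤ := fun e => hn (Subgroup.normalizer_eq_top_iff.1 e)
  obtain ⟨g, hgN, hg⟩ : ∃ g, g ∈ Subgroup.normalizer (N : Set S) ∧ g ∉ N :=
    SetLike.exists_of_lt (Group.normalizerCondition_of_isNilpotent N (lt_top_iff_ne_top.2 hNtop))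
  have hgconj : ∀ n, n ∈ N ↔ g * n * g⁻¹ ∈ N := mem_normalizer_iff.1 hgN
  set E' := E.map (MulAut.conj g).toMonoidHom with hE'
  have hE'mem : ∀ e ∈ E, g * e * g⁻¹ ∈ E' := fun e he => ⟨e, he, rfl⟩
  have hE'N : E' ≤ N := by rintro _ ⟨e, he, rfl⟩; exact (hgconj e).1 (h.E_self_normal he)
  have hE'c : ∀ a ∈ E', ∀ b ∈ E', a * b = b * a := by
    rintro _ ⟨a, ha, rfl⟩ _ ⟨b, hb, rfl⟩
    rw [← map_mul, ← map_mul, h.hEc a ha b hb]
  have hE'n : N ≤ Subgroup.normalizer (E' : Set S) := by
    have key : ∀ n ∈ N, ∀ y ∈ E', n * y * n⁻¹ ∈ E' := by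
      rintro n hn _ ⟨e, he, rfl⟩
      have h1 : g⁻¹ * n * g ∈ N := (hgconj _).2 (by rwa [show g * (g⁻¹ * n * g) * g⁻¹ = n by group])
      refine ⟨_, (mem_normalizer_iff.1 h1 e).1 he, ?_⟩
      simp [MulAut.conj_apply, mul_assoc]
    intro n hn
    refine mem_normalizer_iff.2 fun y => ⟨key n hn y, fun hy => ?_⟩
    have := key n⁻¹ (inv_mem hn) _ hy
    simpa [mul_assoc] using this
  have hE'card : Nat.card E' = 16 := by
    rw [← h.hE16]; exact (Nat.card_congr (E.equivMapOfInjective _ (MulAut.conj g).injective).toEquiv).symm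
  have hE'E : ¬ E' ≤ E := fun hle => hg (by
    have e : E' = E := eq_of_le_of_card_ge hle (by rw [hE'card, h.hE16])
    rw [hN, mem_normalizer_iff]
    intro y
    refine ⟨fun hy => e ▸ hE'mem y hy, fun hy => ?_⟩
    obtain ⟨w, hw, hwe⟩ : g * y * g⁻¹ ∈ E' := e.symm ▸ hy
    have : w = y := (MulAut.conj g).injective hwe
    exact this ▸ hw)
  obtain ⟨x, hxE', hxE, hxc⟩ := h.exists_central le_rfl h.E_self_normal hE'N hE'n hE'E
  have hxN : x ∈ N := hE'N hxE'
  have hx2 : x * x = 1 := by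
    obtain ⟨e, he, rfl⟩ := hxE'
    rw [← map_mul, h.hE2 e he, map_one]
  set D := E ⊓ E' with hD
  set R := (h.cm hxN).range with hR
  set K := E ⊓ centralizer ({x} : Set S) with hK
  have hsN : s ∈ N := h.Q_le_normalizer h.hsQ
  have hxs := h.comm_s hsN hxN hxc
  have hRD : R ≤ D := by
    rintro _ ⟨e, rfl⟩
    refine ⟨h.range_le _ ⟨e, rfl⟩, ?_⟩
    rw [cm_apply]
    have h1 : (e : S) * x * (e : S)⁻¹ ∈ E' := (mem_normalizer_iff.1 (hE'n (h.E_self_normal e.2)) x).1 hxE'
    have := mul_mem h1 (inv_mem hxE')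
    rwa [show (e : S) * x * (e : S)⁻¹ * x⁻¹ = (e : S) * (x * (e : S) * x⁻¹) by rw [h.inv_eq e.2]; group] at this
  have hDK : D ≤ K := fun y hy => ⟨hy.1, mem_centralizer_singleton_iff.2 (hE'c y hy.2 x hxE')⟩
  have hrk := h.card_range_mul hxN
  have hr : ¬ Nat.card R ≤ 2 := fun hle => hxE (h.mem_of_small hxN hxs hle)
  have hRDc := Subgroup.card_le_of_le hRD
  have hDKc := Subgroup.card_le_of_le hDK
  obtain ⟨hR4, hK4⟩ : Nat.card R = 4 ∧ Nat.card K = 4 := by
    obtain ⟨a, ha⟩ := IsPGroup.iff_card.1 (h.hS.to_subgroup R)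
    obtain ⟨b, hb⟩ := IsPGroup.iff_card.1 (h.hS.to_subgroup K)
    rw [ha, hb, ← pow_add] at hrk
    have hab : a + b = 4 := Nat.pow_right_injective le_rfl (hrk.trans (by norm_num))
    have : 2 ≤ a := by
      by_contra hc
      have := Nat.pow_le_pow_right (show 0 < 2 by norm_num) (show a ≤ 1 by omega)
      omega
    have : a ≤ b := (Nat.pow_le_pow_iff_right (show 1 < 2 by norm_num)).1 (ha ▸ hb ▸ hRDc.trans hDKc)
    have ha2 : a = 2 := by omega
    have hb2 : b = 2 := by omega
    rw [ha, hb, ha2, hb2]; norm_num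
  have hRD' : R = D := eq_of_le_of_card_ge hRD (by omega)
  have hKD : D = K := eq_of_le_of_card_ge hDK (by omega)
  have hD4 : Nat.card D = 4 := by rw [hKD]; exact hK4
  -- no element of `Q` outside `E` is central modulo `E`
  have hscentral : ¬ ∀ n ∈ N, n * s * n⁻¹ * s⁻¹ ∈ E := by
    intro hs
    -- then `E'` lies in `D ∪ x D`
    have hidx : Q.relIndex N ≤ 2 := (h.orbit_le h.Q_le_normalizer le_rfl).2 fun y hy => hs y hy
    have hinQ : ∀ y ∈ E', y ∈ Q → y ∈ E := by
      intro y hy hyQ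
      by_contra hyE
      have hys := h.Q_cases hyQ hyE
      have hsy : s * y ∈ E := by
        have := (mem_normalizer_iff.1 (h.Q_le_normalizer h.hsQ) _).1 hys
        rwa [show s * (y * s) * s⁻¹ = s * y by group] at this
      -- `y` and `s` act alike
      have hyrange : (h.cm (hE'N hy)).range = E ⊓ centralizer ({s} : Set S) := by
        rw [← h.range_s]
        have hmem : s * (s * y) ∈ Subgroup.normalizer (E : Set S) := by
          rw [← mul_assoc, h.hss, one_mul]; exact hE'N hy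
        rw [← h.range_mul_right (h.Q_le_normalizer h.hsQ) hsy hmem]
        congr 2
        rw [← mul_assoc, h.hss, one_mul]
      have hle : E ⊓ centralizer ({s} : Set S) ≤ D := by
        rw [← hyrange]
        rintro _ ⟨e, rfl⟩
        refine ⟨h.range_le _ ⟨e, rfl⟩, ?_⟩
        rw [cm_apply]
        have h1 : (e : S) * y * (e : S)⁻¹ ∈ E' := (mem_normalizer_iff.1 (hE'n (h.E_self_normal e.2)) y).1 hy
        have := mul_mem h1 (inv_mem hy)
        rwa [show (e : S) * y * (e : S)⁻¹ * y⁻¹ = (e : S) * (y * (e : S) * y⁻¹) by rw [h.inv_eq e.2]; group] at this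
      have hZD := eq_of_le_of_card_ge hle (by rw [h.hfix, hD4])
      have hxQ : x ∈ Q := by
        rw [← h.hC]
        intro d hd
        rw [hZD] at hd
        exact hE'c d hd.2 x hxE'
      have hE'Q : ∀ w ∈ E', w ∈ Q := fun w hw => by
        rw [← h.hC]
        intro d hd
        rw [hZD] at hd
        exact hE'c d hd.2 w hw
      -- so `E'` has at most eight elements
      have hx' := h.Q_cases hxQ hxE
      have hφ : ∀ w : E', ∃ p : Bool × D, (w : S) = cond p.1 x 1 * p.2 := by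
        intro w
        by_cases hw : (w : S) ∈ E
        · exact ⟨(false, ⟨w, hw, w.2⟩), by simp⟩
        · have h1 : x⁻¹ * (w : S) ∈ E := by
            have := mul_mem (inv_mem hx') (h.hEQ.trans h.Q_le_normalizer |> fun _ => (h.Q_cases (hE'Q w w.2) hw))
            have h2 := (mem_normalizer_iff.1 (h.Q_le_normalizer h.hsQ) _).1 this
            rwa [show s * ((x * s)⁻¹ * (↑w * s)) * s⁻¹ = x⁻¹ * ↑w by group] at h2
          exact ⟨(true, ⟨_, h1, (show x⁻¹ * (w : S) ∈ E' from mul_mem (inv_mem hxE') w.2)⟩), by simp⟩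
      choose φ hφ using hφ
      have := Nat.card_le_card_of_injective φ fun a b e => Subtype.ext (by rw [hφ a, hφ b, e])
      rw [hE'card, Nat.card_prod, hD4] at this
      simp at this
    have hφ : ∀ w : E', ∃ p : Bool × D, (w : S) = cond p.1 x 1 * p.2 := by
      intro w
      by_cases hw : (w : S) ∈ E
      · exact ⟨(false, ⟨w, hw, w.2⟩), by simp⟩
      · have h1 : x⁻¹ * (w : S) ∈ Q := by
          have hxQ : x ∉ Q := fun hc => hxE (hinQ x hxE' hc)
          have hwQ : (w : S) ∉ Q := fun hc => hw (hinQ w w.2 hc)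
          have hi : Q.relIndex N = 2 := by
            have h0 : Q.relIndex N ≠ 0 := Subgroup.index_ne_zero_of_finite
            have h1 : Q.relIndex N ≠ 1 := fun e => hxQ (Subgroup.relIndex_eq_one.1 e hxN)
            omega
          exact (Subgroup.mul_mem_iff_of_index_two (show (Q.subgroupOf N).index = 2 from hi)
            (a := (⟨x, hxN⟩ : N)⁻¹) (b := ⟨w, hE'N w.2⟩)).2 (iff_of_false (fun hc => hxQ (by have := Q.inv_mem (show x⁻¹ ∈ Q from hc); rwa [inv_inv] at this)) hwQ)
        have h2 := hinQ _ (mul_mem (inv_mem hxE') w.2) h1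
        exact ⟨(true, ⟨_, h2, (show x⁻¹ * (w : S) ∈ E' from mul_mem (inv_mem hxE') w.2)⟩), by simp⟩
    choose φ hφ using hφ
    have := Nat.card_le_card_of_injective φ fun a b e => Subtype.ext (by rw [hφ a, hφ b, e])
    rw [hE'card, Nat.card_prod, hD4] at this
    simp at this
  have hxQ : x ∉ Q := fun hc => hscentral fun n hn => by
    have hxs' := h.Q_cases hc hxE
    -- `s` is `x` modulo `E`
    have h1 := hxc n hn
    have h2 : x⁻¹ * s ∈ E := by
      have := inv_mem ((mem_normalizer_iff.1 (h.Q_le_normalizer h.hsQ) _).1 hxs')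
      rwa [show (s * (x * s) * s⁻¹)⁻¹ = x⁻¹ * s⁻¹ by group, h.s_inv] at this
    have h3 := (mem_normalizer_iff.1 hxN _).1 ((mem_normalizer_iff.1 hn _).1 h2)
    have h4 := (mem_normalizer_iff.1 hxN _).1 (inv_mem h2)
    have := mul_mem (mul_mem h1 h3) h4
    rwa [show n * x * n⁻¹ * x⁻¹ * (x * (n * (x⁻¹ * s) * n⁻¹) * x⁻¹) * (x * (x⁻¹ * s)⁻¹ * x⁻¹) =
      n * s * n⁻¹ * s⁻¹ by group] at this
  -- elements central modulo `E` lie in `E` or `x E`
  have huniq : ∀ y ∈ N, y ∉ E → (∀ n ∈ N, n * y * n⁻¹ * y⁻¹ ∈ E) → x⁻¹ * y ∈ E := by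
    intro y hyN hyE hyc
    by_contra hne
    have hw : ∀ n ∈ N, n * (x⁻¹ * y) * n⁻¹ * (x⁻¹ * y)⁻¹ ∈ E := by
      intro n hn
      have h1 := hxc n hn
      have h2 := hyc n hn
      have := (mem_normalizer_iff.1 (inv_mem hxN) _).1 (mul_mem (inv_mem h1) h2)
      rwa [inv_inv, show x⁻¹ * ((n * x * n⁻¹ * x⁻¹)⁻¹ * (n * y * n⁻¹ * y⁻¹)) * x =
        n * (x⁻¹ * y) * n⁻¹ * (x⁻¹ * y)⁻¹ by group] at this
    have hnotQ : ∀ w ∈ N, w ∉ E → (∀ n ∈ N, n * w * n⁻¹ * w⁻¹ ∈ E) → w ∉ Q := by
      intro w hwN hwE hwc hwQ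
      refine hscentral fun n hn => ?_
      have hws := h.Q_cases hwQ hwE
      have h2 : w⁻¹ * s ∈ E := by
        have := inv_mem ((mem_normalizer_iff.1 (h.Q_le_normalizer h.hsQ) _).1 hws)
        rwa [show (s * (w * s) * s⁻¹)⁻¹ = w⁻¹ * s⁻¹ by group, h.s_inv] at this
      have h3 := (mem_normalizer_iff.1 hwN _).1 ((mem_normalizer_iff.1 hn _).1 h2)
      have h4 := (mem_normalizer_iff.1 hwN _).1 (inv_mem h2)
      have := mul_mem (mul_mem (hwc n hn) h3) h4
      rwa [show n * w * n⁻¹ * w⁻¹ * (w * (n * (w⁻¹ * s) * n⁻¹) * w⁻¹) * (w * (w⁻¹ * s)⁻¹ * w⁻¹) =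
        n * s * n⁻¹ * s⁻¹ by group] at this
    have hA := hnotQ y hyN hyE hyc
    have hB := hnotQ _ (mul_mem (inv_mem hxN) hyN) hne hw
    -- all three normalise the two elements `u` and `z * u`
    let C : Subgroup S :=
      { carrier := {w | w ∈ N ∧ w * s * w⁻¹ * s⁻¹ ∈ E}
        one_mem' := ⟨one_mem _, by simp⟩
        mul_mem' := fun {a b} ha hb => ⟨mul_mem ha.1 hb.1, by
          have := mul_mem ((mem_normalizer_iff.1 ha.1 _).1 hb.2) ha.2
          rwa [show a * (b * s * b⁻¹ * s⁻¹) * a⁻¹ * (a * s * a⁻¹ * s⁻¹) = a * b * s * (a * b)⁻¹ * s⁻¹ by group] at this⟩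
        inv_mem' := fun {a} ha => ⟨inv_mem ha.1, by
          have := inv_mem ((mem_normalizer_iff.1 (inv_mem ha.1) _).1 ha.2)
          rwa [show (a⁻¹ * (a * s * a⁻¹ * s⁻¹) * a⁻¹⁻¹)⁻¹ = a⁻¹ * s * a⁻¹⁻¹ * s⁻¹ by group] at this⟩ }
    have hQC : Q ≤ C := fun q hq => ⟨h.Q_le_normalizer hq, by
      by_cases hqE : q ∈ E
      · have h1 := (mem_normalizer_iff.1 (h.Q_le_normalizer h.hsQ) _).1 (inv_mem hqE)
        have := mul_mem hqE h1
        rwa [show q * (s * q⁻¹ * s⁻¹) = q * s * q⁻¹ * s⁻¹ by group] at this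
      · have hqs := h.Q_cases hq hqE
        have := mul_mem hqs ((mem_normalizer_iff.1 (h.Q_le_normalizer h.hsQ) _).1 (inv_mem hqs))
        rw [show q * s * (s * (q * s)⁻¹ * s⁻¹) = q * (s * s) * s⁻¹ * q⁻¹ * s⁻¹ by group, h.hss, mul_one] at this
        simpa [h.s_inv] using this⟩
    have hi := (h.orbit_le hQC (fun w hw => hw.1)).2 (fun w hw => hw.2)
    have hxC : x ∈ C := ⟨hxN, hxs⟩
    have hyC : y ∈ C := ⟨hyN, h.comm_s hsN hyN hyc⟩
    have hi2 : Q.relIndex C = 2 := by
      have h0 : Q.relIndex C ≠ 0 := Subgroup.index_ne_zero_of_finite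
      have h1 : Q.relIndex C ≠ 1 := fun e => hxQ (Subgroup.relIndex_eq_one.1 e hxC)
      omega
    exact hB ((Subgroup.mul_mem_iff_of_index_two (show (Q.subgroupOf C).index = 2 from hi2)
      (a := (⟨x, hxC⟩ : C)⁻¹) (b := ⟨y, hyC⟩)).2 (iff_of_false (fun hc => hxQ (by have := Q.inv_mem (show x⁻¹ ∈ Q from hc); rwa [inv_inv] at this)) hA))
  -- the intersection with `N`
  have hWn : N ≤ Subgroup.normalizer ((V ⊓ N : Subgroup S) : Set S) := fun n hn =>
    mem_normalizer_iff.2 fun y => by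
      constructor
      · intro hy; exact ⟨hVn.conj_mem y hy.1 n, show n * y * n⁻¹ ∈ N from mul_mem (mul_mem hn hy.2) (inv_mem hn)⟩
      · intro hy
        have h1 := hVn.conj_mem _ hy.1 n⁻¹
        have h2 := mul_mem (mul_mem (inv_mem hn) hy.2) hn
        exact ⟨by simpa [mul_assoc] using h1, by simpa [mul_assoc] using h2⟩
  have hWE : V ⊓ N ≤ E := by
    by_contra hne
    obtain ⟨y, hy, hyE, hyc⟩ := h.exists_central le_rfl h.E_self_normal inf_le_right hWn hne
    have hxy := huniq y hy.2 hyE hyc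
    set e₁ := x⁻¹ * y with he₁
    have hye : y = x * e₁ := by rw [he₁, mul_inv_cancel_left]
    have hmem : x * e₁ ∈ N := hye ▸ hy.2
    have hcm : h.cm hy.2 = h.cm hxN := by
      rw [← h.range_mul_right hxN hxy hmem]
      congr 1
    -- `D = V ⊓ E`
    have hDV : D ≤ V := by
      rw [← hRD', hR, ← hcm]
      rintro _ ⟨e, rfl⟩
      rw [cm_apply]
      have := mul_mem (hVn.conj_mem y hy.1 (e : S)) (inv_mem hy.1)
      rwa [show (e : S) * y * (e : S)⁻¹ * y⁻¹ = (e : S) * (y * (e : S) * y⁻¹) by rw [h.inv_eq e.2]; group] at this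
    have hVE : V ⊓ E = D := (eq_of_le_of_card_ge (le_inf hDV inf_le_left) (by
      have hle : V ⊓ E ≤ E ⊓ centralizer ({y} : Set S) := fun w hw =>
        ⟨hw.2, mem_centralizer_singleton_iff.2 (hVcomm w hw.1 y hy.1)⟩
      have h1 := h.card_range_mul hy.2
      rw [hcm, ← hR, hR4] at h1
      have := Subgroup.card_le_of_le hle
      omega)).symm
    have hVE' : V ⊓ E' = D := (eq_of_le_of_card_ge (le_inf hDV inf_le_right) (by
      have : Nat.card ↥(V ⊓ E') ≤ Nat.card ↥(V ⊓ E) :=
        Nat.card_le_card_of_injective (fun w => ⟨g⁻¹ * w * g, by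
          obtain ⟨e, he, hwe⟩ := w.2.2
          refine ⟨?_, ?_⟩
          · have := hVn.conj_mem _ w.2.1 g⁻¹; rwa [inv_inv] at this
          · rw [← hwe]; simpa [MulAut.conj_apply, mul_assoc] using he⟩)
        fun a b e => Subtype.ext (by simpa using congrArg Subtype.val e)
      rw [hVE] at this
      omega)).symm
    have hy2 : (x * e₁) * (x * e₁) = 1 := by rw [← hye, ← pow_two]; exact hV2 y hy.1
    have hxi : x⁻¹ = x := inv_eq_of_mul_eq_one_right hx2
    have he₁D : e₁ ∈ D := by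
      rw [hKD]
      refine ⟨hxy, mem_centralizer_singleton_iff.2 ?_⟩
      have e := eq_inv_of_mul_eq_one_left hy2
      rw [mul_inv_rev, hxi, h.inv_eq hxy] at e
      exact e.symm
    have : y ∈ V ⊓ E' := ⟨hy.1, hye ▸ mul_mem hxE' he₁D.2⟩
    rw [hVE'] at this
    exact hyE this.1
  have hWD : Nat.card ↥(V ⊓ N) ≤ 4 := by
    refine le_trans (Subgroup.card_le_of_le (show V ⊓ N ≤ D from fun w hw => ⟨hWE hw, ?_⟩)) hD4.le
    have hw' : g⁻¹ * w * g ∈ E := hWE ⟨by have := hVn.conj_mem _ hw.1 g⁻¹; rwa [inv_inv] at this,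
      (hgconj _).2 (by rw [show g * (g⁻¹ * w * g) * g⁻¹ = w by group]; exact hw.2)⟩
    refine ⟨_, hw', ?_⟩
    simp [MulAut.conj_apply, mul_assoc]
  have hVN : ¬ V ≤ N := fun hle => by rw [inf_eq_left.2 hle] at hWD; omega
  obtain ⟨w, hwn, hwN⟩ : ∃ w, w ∈ Subgroup.normalizer (N : Set S) ⊓ (N ⊔ V) ∧ w ∉ N := by
    have hlt : N.subgroupOf (N ⊔ V) < ⊤ := lt_top_iff_ne_top.2 fun e => hVN
      (le_sup_right.trans (Subgroup.subgroupOf_eq_top.1 e))
    haveI : Group.IsNilpotent ↥(N ⊔ V) := (h.hS.to_subgroup _).isNilpotent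
    obtain ⟨w, hw, hwn⟩ := SetLike.exists_of_lt (Group.normalizerCondition_of_isNilpotent _ hlt)
    refine ⟨w, ⟨mem_normalizer_iff.2 fun y => ?_, w.2⟩, hwn⟩
    constructor
    · intro hy
      exact (mem_normalizer_iff.1 hw ⟨y, le_sup_left (b := V) hy⟩).1 hy
    · intro hy
      have hyS : y ∈ N ⊔ V := by
        have := mul_mem (mul_mem (inv_mem w.2) (le_sup_left (b := V) hy)) w.2
        simpa [mul_assoc] using this
      exact (mem_normalizer_iff.1 hw ⟨y, hyS⟩).2 hy
  haveI := hVn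
  obtain ⟨n, hn, v, hv, hnv⟩ := Subgroup.mem_sup_of_normal_right.1 hwn.2
  have hvN : v ∈ Subgroup.normalizer (N : Set S) := by
    have := mul_mem (inv_mem (Subgroup.le_normalizer hn)) hwn.1
    rwa [← hnv, inv_mul_cancel_left] at this
  refine hwN (hnv ▸ mul_mem hn ?_)
  rw [hN, mem_normalizer_iff]
  have key : ∀ e ∈ E, v * e * v⁻¹ ∈ E := by
    intro e he
    have h1 : v * e * v⁻¹ * e⁻¹ ∈ V := by
      have := mul_mem hv (hVn.conj_mem _ (inv_mem hv) e)
      rwa [show v * (e * v⁻¹ * e⁻¹) = v * e * v⁻¹ * e⁻¹ by group] at this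
    have h2 : v * e * v⁻¹ * e⁻¹ ∈ N :=
      mul_mem ((mem_normalizer_iff.1 hvN e).1 (h.E_self_normal he)) (inv_mem (h.E_self_normal he))
    have := mul_mem (hWE ⟨h1, h2⟩) he
    rwa [inv_mul_cancel_right] at this
  intro e
  refine ⟨key e, fun he => ?_⟩
  have hvv : v⁻¹ = v := inv_eq_of_mul_eq_one_right (by rw [← pow_two]; exact hV2 v hv)
  have := key _ he
  rwa [hvv, show v * (v * e * v) * v = v * v * e * (v * v) by group, ← pow_two, hV2 v hv, one_mul, mul_one] at this

/-- The sectional rank is at most four. -/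
theorem sectional_rank : Cfsg.SectionalPRankLE 2 4 S := by
  by_cases hn : E.Normal
  · intro H N _ A hA hexp
    let π := QuotientGroup.mk' N
    let K : Subgroup S := (A.comap π).map H.subtype
    let e := (A.comap π).equivMapOfInjective H.subtype H.subtype_injective
    let f : K →* A := (π.subgroupComap A).comp e.symm.toMonoidHom
    have hf : Function.Surjective f :=
      (MonoidHom.subgroupComap_surjective_of_surjective π A (QuotientGroup.mk'_surjective N)).comp e.symm.surjective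
    exact h.card_le_of_normal hn K f hf fun v => Subtype.ext (by simpa using hexp v.1 v.2)
  · exact MacWilliams.sectional_rank_le_four h.hS (h.noEight_of_not_normal hn)

end Setup

end CfsgLib.WreathRank
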